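import Cfsg.Agent.H613.KS.Defs

/-!
# S4577: the orbits of the 5-element, the trace formula (helper15)

* `D4` : the `y`-orbits on `D#`;
* `TR` : the multiplicities of the characters of `D` in a representation of `S`, characteristic not two.
-/

set_option autoImplicit false

open Cfsg Cfsg.Agent.H613.KS

namespace Cfsg.Agent.H15.KS

universe u

variable {S : Type u} [Group S] {D : Subgroup S}

theorem E16.comm (h : E16 D) {a b : S} (ha : a ∈ D) (hb : b ∈ D) : a * b = b * a := by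
  have h1 := h.inv a ha
  have h2 := h.inv b hb
  have h3 := h.inv (a * b) (D.mul_mem ha hb)
  have h4 : a⁻¹ = a := inv_eq_of_mul_eq_one_left h1
  have h5 : b⁻¹ = b := inv_eq_of_mul_eq_one_left h2
  have h6 : (a * b)⁻¹ = a * b := inv_eq_of_mul_eq_one_left h3
  rw [← h6, mul_inv_rev, h4, h5]

/-- conjugation by `y ^ i` preserves `D` -/
theorem pow_norm {y : S} (hy : Five D y) (i : ℕ) (d : S) : y ^ i * d * (y ^ i)⁻¹ ∈ D ↔ d ∈ D := by
  induction i with
  | zero => simp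
  | succ i ih =>
    have e1 : y ^ (i + 1) * d * (y ^ (i + 1))⁻¹ = y * (y ^ i * d * (y ^ i)⁻¹) * y⁻¹ := by
      rw [pow_succ']
      group
    rw [e1, hy.norm, ih]

theorem five_comm [Finite S] (h : E16 D) {y : S} (hy : Five D y) {d : S} (hd : d ∈ D) : y ^ 5 * d = d * y ^ 5 := by
  classical
  have : Fintype D := Fintype.ofFinite D
  let f : D → D := fun x => ⟨y * x * y⁻¹, (hy.norm x).2 x.2⟩
  have hf : ∀ (n : ℕ) (x : D), ((f^[n] x : D) : S) = y ^ n * x * (y ^ n)⁻¹ := by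
    intro n
    induction n with
    | zero => intro x; simp
    | succ n ih =>
      intro x
      rw [Function.iterate_succ_apply', pow_succ']
      change y * ((f^[n] x : D) : S) * y⁻¹ = _
      rw [ih]
      group
  obtain ⟨m, hm⟩ := hy.five
  have h1 : Function.IsPeriodicPt f (5 ^ m) ⟨d, hd⟩ := by
    apply Subtype.ext
    rw [hf, ← hm, pow_orderOf_eq_one]
    simp
  obtain ⟨k, -, hk⟩ := (Nat.dvd_prime_pow Nat.prime_five).1 (Function.isPeriodicPt_iff_minimalPeriod_dvd.1 h1)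
  have h2 : 5 ^ k ≤ 16 := by
    rw [← hk, ← h.card, Nat.card_eq_fintype_card]
    exact Function.minimalPeriod_le_card
  have h3 : k ≤ 1 := by
    by_contra hc
    have h4 : 5 ^ 2 ≤ 5 ^ k := Nat.pow_le_pow_right (by norm_num) (by omega)
    omega
  have h5 : Function.IsPeriodicPt f 5 ⟨d, hd⟩ := by
    rw [Function.isPeriodicPt_iff_minimalPeriod_dvd, hk]
    exact (Nat.pow_dvd_pow 5 h3).trans (by norm_num)
  have h6 := congrArg Subtype.val (h5 : f^[5] ⟨d, hd⟩ = ⟨d, hd⟩)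
  rw [hf] at h6
  exact mul_inv_eq_iff_eq_mul.1 h6

theorem not_comm (h : E16 D) {y : S} (hy : Five D y) {d : S} (hd : d ∈ D) (hd1 : d ≠ 1) : y * d ≠ d * y := by
  intro hc
  have h1 : ∀ a ∈ Subgroup.zpowers d, y * a * y⁻¹ ∈ Subgroup.zpowers d := by
    rintro _ ⟨k, rfl⟩
    have h2 : y * d ^ k * y⁻¹ = d ^ k := by
      rw [mul_inv_eq_iff_eq_mul]
      exact (Commute.zpow_right (hc : Commute y d) k)
    change y * d ^ k * y⁻¹ ∈ _
    rw [h2]
    exact ⟨k, rfl⟩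
  have ho : orderOf d = 2 := orderOf_eq_prime (by rw [pow_two, h.inv d hd]) hd1
  rcases hy.irr (Subgroup.zpowers d) ((Subgroup.zpowers_le).2 hd) h1 with h2 | h2
  · exact hd1 (Subgroup.zpowers_eq_bot.1 h2)
  · have h3 := h.card
    rw [← h2, Nat.card_zpowers, ho] at h3
    norm_num at h3

/-- the product of an orbit -/
theorem prod_orbit [Finite S] (h : E16 D) {y : S} (hy : Five D y) {d : S} (hd : d ∈ D) :
    d * (y * d * y⁻¹) * (y ^ 2 * d * (y ^ 2)⁻¹) * (y ^ 3 * d * (y ^ 3)⁻¹) * (y ^ 4 * d * (y ^ 4)⁻¹) = 1 := by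
  by_contra hne
  have hm : ∀ i : ℕ, y ^ i * d * (y ^ i)⁻¹ ∈ D := fun i => (pow_norm hy i d).2 hd
  have h1 : y * d * y⁻¹ ∈ D := by simpa using hm 1
  refine not_comm h hy (D.mul_mem (D.mul_mem (D.mul_mem (D.mul_mem hd h1) (hm 2)) (hm 3)) (hm 4)) hne ?_
  rw [← mul_inv_eq_iff_eq_mul]
  have h5 : y ^ 5 * d * (y ^ 5)⁻¹ = d := by
    rw [mul_inv_eq_iff_eq_mul]
    exact five_comm h hy hd
  have h2 : y * (d * (y * d * y⁻¹) * (y ^ 2 * d * (y ^ 2)⁻¹) * (y ^ 3 * d * (y ^ 3)⁻¹) * (y ^ 4 * d * (y ^ 4)⁻¹)) * y⁻¹ =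
      ((y * d * y⁻¹) * (y ^ 2 * d * (y ^ 2)⁻¹) * (y ^ 3 * d * (y ^ 3)⁻¹) * (y ^ 4 * d * (y ^ 4)⁻¹)) *
        (y ^ 5 * d * (y ^ 5)⁻¹) := by group
  rw [h2, h5, E16.comm h (D.mul_mem (D.mul_mem (D.mul_mem h1 (hm 2)) (hm 3)) (hm 4)) hd]
  simp only [mul_assoc]

theorem closure_orbit {y : S} (hy : Five D y) {d : S} (hd : d ∈ D) (hd1 : d ≠ 1) :
    Subgroup.closure {e : S | ∃ i : ℕ, e = y ^ i * d * (y ^ i)⁻¹} = D := by
  have hle : Subgroup.closure {e : S | ∃ i : ℕ, e = y ^ i * d * (y ^ i)⁻¹} ≤ D := by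
    rw [Subgroup.closure_le]
    rintro _ ⟨i, rfl⟩
    exact (pow_norm hy i d).2 hd
  refine (hy.irr _ hle ?_).resolve_left ?_
  · intro a ha
    refine Subgroup.closure_induction (p := fun a _ => y * a * y⁻¹ ∈
      Subgroup.closure {e : S | ∃ i : ℕ, e = y ^ i * d * (y ^ i)⁻¹}) ?_ ?_ ?_ ?_ ha
    · rintro _ ⟨i, rfl⟩
      refine Subgroup.subset_closure ⟨i + 1, ?_⟩
      rw [pow_succ']
      group
    · rw [mul_one, mul_inv_cancel]
      exact one_mem _
    · intro a b _ _ ha hb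
      have := Subgroup.mul_mem _ ha hb
      have e1 : y * a * y⁻¹ * (y * b * y⁻¹) = y * (a * b) * y⁻¹ := by group
      rwa [e1] at this
    · intro a _ ha
      have := Subgroup.inv_mem _ ha
      have e1 : (y * a * y⁻¹)⁻¹ = y * a⁻¹ * y⁻¹ := by group
      rwa [e1] at this
  · intro h0
    have h1 : d ∈ Subgroup.closure {e : S | ∃ i : ℕ, e = y ^ i * d * (y ^ i)⁻¹} :=
      Subgroup.subset_closure ⟨0, by simp⟩
    rw [h0] at h1
    exact hd1 h1

/-- **the `y`-orbits on `D#`** -/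
theorem D4 [Finite S] (h : E16 D) {y : S} (hy : Five D y) :
    (∀ d ∈ D, y ^ 5 * d = d * y ^ 5) ∧ (∀ d ∈ D, d ≠ 1 → y * d ≠ d * y) ∧
    (∀ d ∈ D, d * (y * d * y⁻¹) * (y ^ 2 * d * (y ^ 2)⁻¹) * (y ^ 3 * d * (y ^ 3)⁻¹) * (y ^ 4 * d * (y ^ 4)⁻¹) = 1) ∧
    (∀ d ∈ D, d ≠ 1 → Subgroup.closure {e : S | ∃ i : ℕ, e = y ^ i * d * (y ^ i)⁻¹} = D) :=
  ⟨fun _ hd => five_comm h hy hd, fun _ hd hd1 => not_comm h hy hd hd1, fun _ hd => prod_orbit h hy hd,
    fun _ hd hd1 => closure_orbit hy hd hd1⟩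

/-! ### the elements of `D` -/

section elements

variable {C : Type*} [CommGroup C]

/-- products of some of four elements -/
def PP (x0 x1 x2 x3 : C) (b0 b1 b2 b3 : Bool) : C :=
  (if b0 then x0 else 1) * (if b1 then x1 else 1) * ((if b2 then x2 else 1) * (if b3 then x3 else 1))

theorem ite_mul_ite' {x : C} (hx : x * x = 1) (b c : Bool) :
    (if b then x else 1) * (if c then x else 1) = if (b ^^ c) then x else 1 := by
  cases b <;> cases c <;> simp [hx]

theorem PP_mul {x0 x1 x2 x3 : C} (h0 : x0 * x0 = 1) (h1 : x1 * x1 = 1) (h2 : x2 * x2 = 1) (h3 : x3 * x3 = 1)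
    (b0 b1 b2 b3 c0 c1 c2 c3 : Bool) : PP x0 x1 x2 x3 b0 b1 b2 b3 * PP x0 x1 x2 x3 c0 c1 c2 c3 =
      PP x0 x1 x2 x3 (b0 ^^ c0) (b1 ^^ c1) (b2 ^^ c2) (b3 ^^ c3) := by
  unfold PP
  rw [mul_mul_mul_comm, mul_mul_mul_comm (if b0 then x0 else 1), mul_mul_mul_comm (if b2 then x2 else 1),
    ite_mul_ite' h0, ite_mul_ite' h1, ite_mul_ite' h2, ite_mul_ite' h3]

theorem class5 (e : ℕ → C) (h2 : ∀ i, e i * e i = 1) (h5 : ∀ i, e (i + 5) = e i)
    (hp : e 0 * e 1 * e 2 * e 3 * e 4 = 1) {x : C} (hx : x ∈ Subgroup.closure (Set.range e)) :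
    x = 1 ∨ ∃ i, x = e i ∨ x = e i * e (i + 1) ∨ x = e i * e (i + 2) := by
  have inv_of : ∀ x z : C, x * z = 1 → z * z = 1 → x = z := by
    intro x z h1 h2
    exact mul_right_cancel (h1.trans h2.symm)
  have hsq : ∀ a b : C, a * a = 1 → b * b = 1 → (a * b) * (a * b) = 1 := by
    intro a b ha hb
    rw [mul_mul_mul_comm, ha, hb, one_mul]
  have e5 : e 5 = e 0 := h5 0
  have e6 : e 6 = e 1 := h5 1
  have he4 : e 0 * e 1 * (e 2 * e 3) = e 4 := inv_of _ _ (by rw [← hp]; simp only [mul_assoc]) (h2 4)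
  have hP : ∃ b0 b1 b2 b3 : Bool, x = PP (e 0) (e 1) (e 2) (e 3) b0 b1 b2 b3 := by
    refine Subgroup.closure_induction (p := fun x _ => ∃ b0 b1 b2 b3 : Bool, x = PP (e 0) (e 1) (e 2) (e 3) b0 b1 b2 b3)
      ?_ ?_ ?_ ?_ hx
    · rintro _ ⟨i, rfl⟩
      have h6 : ∀ i, e i = e (i % 5) := by
        intro i
        conv_lhs => rw [← Nat.mod_add_div i 5]
        induction i / 5 with
        | zero => rfl
        | succ j ih => rw [Nat.mul_succ, ← Nat.add_assoc, h5, ih]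
      rw [h6]
      have h7 : i % 5 < 5 := Nat.mod_lt _ (by norm_num)
      interval_cases i % 5
      · exact ⟨true, false, false, false, by simp [PP]⟩
      · exact ⟨false, true, false, false, by simp [PP]⟩
      · exact ⟨false, false, true, false, by simp [PP]⟩
      · exact ⟨false, false, false, true, by simp [PP]⟩
      · exact ⟨true, true, true, true, by simp [PP, he4]⟩
    · exact ⟨false, false, false, false, by simp [PP]⟩
    · rintro _ _ _ _ ⟨b0, b1, b2, b3, rfl⟩ ⟨c0, c1, c2, c3, rfl⟩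
      exact ⟨_, _, _, _, PP_mul (h2 0) (h2 1) (h2 2) (h2 3) b0 b1 b2 b3 c0 c1 c2 c3⟩
    · rintro _ _ ⟨b0, b1, b2, b3, rfl⟩
      refine ⟨b0, b1, b2, b3, inv_eq_of_mul_eq_one_left ?_⟩
      rw [PP_mul (h2 0) (h2 1) (h2 2) (h2 3)]
      simp [PP]
  obtain ⟨b0, b1, b2, b3, rfl⟩ := hP
  cases b0 <;> cases b1 <;> cases b2 <;> cases b3 <;> simp only [PP, if_true, if_false, one_mul, mul_one,
    Bool.false_eq_true]
  · exact Or.inl trivial
  · exact Or.inr ⟨3, Or.inl rfl⟩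
  · exact Or.inr ⟨2, Or.inl rfl⟩
  · exact Or.inr ⟨2, Or.inr (Or.inl rfl)⟩
  · exact Or.inr ⟨1, Or.inl rfl⟩
  · exact Or.inr ⟨1, Or.inr (Or.inr rfl)⟩
  · exact Or.inr ⟨1, Or.inr (Or.inl rfl)⟩
  · -- e1 e2 e3 = e4 e0
    refine Or.inr ⟨4, Or.inr (Or.inl ?_)⟩
    rw [e5]
    refine inv_of _ _ ?_ (hsq _ _ (h2 4) (h2 0))
    rw [← hp]
    simp only [mul_comm, mul_left_comm, mul_assoc]
  · exact Or.inr ⟨0, Or.inl rfl⟩
  · refine Or.inr ⟨3, Or.inr (Or.inr ?_)⟩
    rw [e5, mul_comm]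
  · exact Or.inr ⟨0, Or.inr (Or.inr rfl)⟩
  · refine Or.inr ⟨4, Or.inr (Or.inr ?_)⟩
    rw [e6]
    refine inv_of _ _ ?_ (hsq _ _ (h2 4) (h2 1))
    rw [← hp]
    simp only [mul_comm, mul_left_comm, mul_assoc]
  · exact Or.inr ⟨0, Or.inr (Or.inl rfl)⟩
  · refine Or.inr ⟨2, Or.inr (Or.inr ?_)⟩
    change _ = e 2 * e 4
    refine inv_of _ _ ?_ (hsq _ _ (h2 2) (h2 4))
    rw [← hp]
    simp only [mul_left_comm, mul_assoc]
  · refine Or.inr ⟨3, Or.inr (Or.inl ?_)⟩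
    change _ = e 3 * e 4
    refine inv_of _ _ ?_ (hsq _ _ (h2 3) (h2 4))
    rw [← hp]
    simp only [mul_assoc]
  · exact Or.inr ⟨4, Or.inl he4⟩

end elements

/-! ### the eigenspaces -/

section eigen

open Module

variable {k : Type*} [Field k] {V : Type*} [AddCommGroup V] [Module k V]

/-- the sign -/
def sg (k : Type*) [Field k] (b : Bool) : k := if b then -1 else 1

theorem sg_mul (b c : Bool) : sg k b * sg k c = sg k (b ^^ c) := by
  cases b <;> cases c <;> simp [sg]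

theorem sg_sq (b : Bool) : sg k b * sg k b = 1 := by
  rw [sg_mul]
  cases b <;> rfl

theorem sg_ne (h2 : (2 : k) ≠ 0) : sg k true ≠ sg k false := by
  intro h
  apply h2
  have h1 : (-1 : k) = 1 := h
  linear_combination -h1

/-- the eigenspaces of an involution: `true` is the eigenvalue `-1` -/
def KK (b : Bool) (T : Module.End k V) : Submodule k V where
  carrier := {v | T v = sg k b • v}
  add_mem' {a c} ha hc := by
    change T (a + c) = _
    rw [map_add, ha, hc, smul_add]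
  zero_mem' := by
    change T 0 = _
    rw [map_zero, smul_zero]
  smul_mem' c v hv := by
    change T (c • v) = _
    rw [map_smul, hv, smul_comm]

theorem mem_KK {b : Bool} {T : Module.End k V} {v : V} : v ∈ KK b T ↔ T v = sg k b • v := Iff.rfl

theorem ker_add_one (T : Module.End k V) : LinearMap.ker (T + 1) = KK true T := by
  ext v
  rw [LinearMap.mem_ker, mem_KK, LinearMap.add_apply, Module.End.one_apply, sg, if_pos rfl, neg_one_smul,
    add_eq_zero_iff_eq_neg]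

theorem ker_sub_one (T : Module.End k V) : LinearMap.ker (T - 1) = KK false T := by
  ext v
  rw [LinearMap.mem_ker, mem_KK, LinearMap.sub_apply, Module.End.one_apply, sg, if_neg (by simp), one_smul,
    sub_eq_zero]

variable [FiniteDimensional k V]

theorem finrank_split (h2 : (2 : k) ≠ 0) {T : Module.End k V} (hT : ∀ v, T (T v) = v) {U : Submodule k V}
    (hU : ∀ u ∈ U, T u ∈ U) :
    finrank k U = finrank k (U ⊓ KK false T : Submodule k V) + finrank k (U ⊓ KK true T : Submodule k V) := by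
  rw [← Submodule.finrank_sup_add_finrank_inf_eq]
  have h1 : (U ⊓ KK false T) ⊓ (U ⊓ KK true T) = ⊥ := by
    rw [eq_bot_iff]
    rintro v ⟨⟨-, h3⟩, ⟨-, h4⟩⟩
    have h3' : T v = sg k false • v := h3
    have h4' : T v = sg k true • v := h4
    rw [h3', ← sub_eq_zero, ← sub_smul, smul_eq_zero, sub_eq_zero] at h4'
    rcases h4' with h5 | h5
    · exact absurd h5.symm (sg_ne h2)
    · exact h5
  have h5 : (U ⊓ KK false T) ⊔ (U ⊓ KK true T) = U := by
    apply le_antisymm (sup_le inf_le_left inf_le_left)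
    intro u hu
    have e1 : u = (2 : k)⁻¹ • (u + T u) + (2 : k)⁻¹ • (u - T u) := by
      rw [← smul_add, add_add_sub_cancel, ← two_smul k u, smul_smul, inv_mul_cancel₀ h2, one_smul]
    rw [e1]
    refine Submodule.add_mem_sup ⟨U.smul_mem _ (U.add_mem hu (hU u hu)), ?_⟩
      ⟨U.smul_mem _ (U.sub_mem hu (hU u hu)), ?_⟩
    · change T _ = _
      rw [map_smul, map_add, hT, sg, if_neg (by simp), one_smul, add_comm]
    · change T _ = _
      rw [map_smul, map_sub, hT, sg, if_pos rfl, neg_one_smul, ← smul_neg, neg_sub]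
  rw [h1, h5, finrank_bot, add_zero]

/-- the multiplicity of a character -/
noncomputable def mu (T0 T1 T2 T3 : Module.End k V) (b0 b1 b2 b3 : Bool) : ℕ :=
  finrank k (KK b0 T0 ⊓ KK b1 T1 ⊓ KK b2 T2 ⊓ KK b3 T3 : Submodule k V)

/-- the dimension of an eigenspace, or of the whole space -/
theorem finrank_eq_sum (h2 : (2 : k) ≠ 0) {T0 T1 T2 T3 : Module.End k V} (h0 : ∀ v, T0 (T0 v) = v)
    (h1 : ∀ v, T1 (T1 v) = v) (h22 : ∀ v, T2 (T2 v) = v) (h3 : ∀ v, T3 (T3 v) = v)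
    (c01 : ∀ v, T0 (T1 v) = T1 (T0 v)) (c02 : ∀ v, T0 (T2 v) = T2 (T0 v)) (c03 : ∀ v, T0 (T3 v) = T3 (T0 v))
    (c12 : ∀ v, T1 (T2 v) = T2 (T1 v)) (c13 : ∀ v, T1 (T3 v) = T3 (T1 v)) (c23 : ∀ v, T2 (T3 v) = T3 (T2 v))
    {U : Submodule k V} (u0 : ∀ u ∈ U, T0 u ∈ U) (u1 : ∀ u ∈ U, T1 u ∈ U) (u2 : ∀ u ∈ U, T2 u ∈ U)
    (u3 : ∀ u ∈ U, T3 u ∈ U) (c : Bool → Bool → Bool → Bool → Bool)
    (hc : ∀ b0 b1 b2 b3 : Bool, ∀ v, v ∈ KK b0 T0 → v ∈ KK b1 T1 → v ∈ KK b2 T2 → v ∈ KK b3 T3 → v ≠ 0 →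
      (v ∈ U ↔ c b0 b1 b2 b3 = true)) :
    finrank k U = ∑ b0 : Bool, ∑ b1 : Bool, ∑ b2 : Bool, ∑ b3 : Bool,
      if c b0 b1 b2 b3 then mu T0 T1 T2 T3 b0 b1 b2 b3 else 0 := by
  have hK : ∀ {T T' : Module.End k V} (_ : ∀ v, T (T' v) = T' (T v)) (b : Bool) {W : Submodule k V}
      (_ : ∀ u ∈ W, T' u ∈ W), ∀ u ∈ W ⊓ KK b T, T' u ∈ W ⊓ KK b T := by
    rintro T T' h b W hW u ⟨h4, h5⟩
    refine ⟨hW u h4, ?_⟩
    have h5' : T u = sg k b • u := h5
    change T (T' u) = _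
    rw [h, h5', map_smul]
  have key : ∀ b0 b1 b2 b3 : Bool, finrank k (U ⊓ KK b0 T0 ⊓ KK b1 T1 ⊓ KK b2 T2 ⊓ KK b3 T3 : Submodule k V) =
      if c b0 b1 b2 b3 then mu T0 T1 T2 T3 b0 b1 b2 b3 else 0 := by
    intro b0 b1 b2 b3
    by_cases hcb : c b0 b1 b2 b3 = true
    · have h8 : (U ⊓ KK b0 T0 ⊓ KK b1 T1 ⊓ KK b2 T2 ⊓ KK b3 T3 : Submodule k V) =
          KK b0 T0 ⊓ KK b1 T1 ⊓ KK b2 T2 ⊓ KK b3 T3 := by
        apply le_antisymm
        · rintro v ⟨⟨⟨⟨-, h4⟩, h5⟩, h6⟩, h7⟩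
          exact ⟨⟨⟨h4, h5⟩, h6⟩, h7⟩
        · rintro v ⟨⟨⟨h4, h5⟩, h6⟩, h7⟩
          refine ⟨⟨⟨⟨?_, h4⟩, h5⟩, h6⟩, h7⟩
          by_cases hv : v = 0
          · rw [hv]; exact U.zero_mem
          · exact (hc b0 b1 b2 b3 v h4 h5 h6 h7 hv).2 hcb
      rw [if_pos hcb, mu, h8]
    · rw [if_neg hcb]
      have h8 : (U ⊓ KK b0 T0 ⊓ KK b1 T1 ⊓ KK b2 T2 ⊓ KK b3 T3 : Submodule k V) = ⊥ := by
        rw [eq_bot_iff]
        rintro v ⟨⟨⟨⟨h9, h4⟩, h5⟩, h6⟩, h7⟩
        by_contra hv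
        exact hcb ((hc b0 b1 b2 b3 v h4 h5 h6 h7 hv).1 h9)
      rw [h8, finrank_bot]
  have s0 := finrank_split h2 h0 u0
  have s1 : ∀ b0 : Bool, _ := fun b0 => finrank_split h2 h1 (hK c01 b0 u1)
  have s2 : ∀ b0 b1 : Bool, _ := fun b0 b1 => finrank_split h2 h22 (hK c12 b1 (hK c02 b0 u2))
  have s3 : ∀ b0 b1 b2 : Bool, _ := fun b0 b1 b2 => finrank_split h2 h3 (hK c23 b2 (hK c13 b1 (hK c03 b0 u3)))
  simp only [Fintype.sum_bool, ← key]
  have := s1 true; have := s1 false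
  have := s2 true true; have := s2 true false; have := s2 false true; have := s2 false false
  have := s3 true true true; have := s3 true true false; have := s3 true false true; have := s3 true false false
  have := s3 false true true; have := s3 false true false; have := s3 false false true; have := s3 false false false
  omega

omit [FiniteDimensional k V] in
/-- the shift -/
theorem mu_shift {T0 T1 T2 T3 T4 : Module.End k V} (Y : V ≃ₗ[k] V) (y0 : ∀ v, Y (T0 v) = T1 (Y v))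
    (y1 : ∀ v, Y (T1 v) = T2 (Y v)) (y2 : ∀ v, Y (T2 v) = T3 (Y v)) (y3 : ∀ v, Y (T3 v) = T4 (Y v))
    (h4 : ∀ v, T4 v = T0 (T1 (T2 (T3 v)))) (h4' : ∀ v, T0 v = T1 (T2 (T3 (T4 v)))) (b0 b1 b2 b3 : Bool) :
    mu T0 T1 T2 T3 b0 b1 b2 b3 = mu T0 T1 T2 T3 (b0 ^^ b1 ^^ b2 ^^ b3) b0 b1 b2 := by
  have hK : ∀ {T T' : Module.End k V} (_ : ∀ v, Y (T v) = T' (Y v)) (b : Bool) (v : V), v ∈ KK b T ↔ Y v ∈ KK b T' := by
    intro T T' h b v
    rw [mem_KK, mem_KK, ← h, ← map_smul, Y.injective.eq_iff]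
  have h5 : (KK b0 T0 ⊓ KK b1 T1 ⊓ KK b2 T2 ⊓ KK b3 T3 : Submodule k V).map (Y : V →ₗ[k] V) =
      KK (b0 ^^ b1 ^^ b2 ^^ b3) T0 ⊓ KK b0 T1 ⊓ KK b1 T2 ⊓ KK b2 T3 := by
    ext w
    rw [Submodule.mem_map]
    constructor
    · rintro ⟨v, ⟨⟨⟨e0, e1⟩, e2⟩, e3⟩, rfl⟩
      have f0 := (hK y0 b0 v).1 e0
      have f1 := (hK y1 b1 v).1 e1
      have f2 := (hK y2 b2 v).1 e2
      have f3 := (hK y3 b3 v).1 e3
      refine ⟨⟨⟨?_, f0⟩, f1⟩, f2⟩
      change T0 (Y v) = _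
      rw [mem_KK] at f0 f1 f2 f3
      rw [h4', f3, map_smul, map_smul, map_smul, f2, map_smul, map_smul, f1, map_smul, f0, smul_smul, smul_smul,
        smul_smul, sg_mul, sg_mul, sg_mul]
      congr 2
      cases b0 <;> cases b1 <;> cases b2 <;> cases b3 <;> rfl
    · rintro ⟨⟨⟨e0, e1⟩, e2⟩, e3⟩
      obtain ⟨v, rfl⟩ := Y.surjective w
      refine ⟨v, ⟨⟨⟨(hK y0 b0 v).2 e1, (hK y1 b1 v).2 e2⟩, (hK y2 b2 v).2 e3⟩, (hK y3 b3 v).2 ?_⟩, rfl⟩
      change T4 (Y v) = _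
      have f0 : T0 (Y v) = _ := e0
      have f1 : T1 (Y v) = _ := e1
      have f2 : T2 (Y v) = _ := e2
      have f3 : T3 (Y v) = _ := e3
      rw [h4, f3, map_smul, map_smul, map_smul, f2, map_smul, map_smul, f1, map_smul, f0, smul_smul, smul_smul,
        smul_smul, sg_mul, sg_mul, sg_mul]
      congr 2
      cases b0 <;> cases b1 <;> cases b2 <;> cases b3 <;> rfl
  rw [mu, mu, ← h5, LinearEquiv.finrank_map_eq]

end eigen

/-! ### the representation -/

section rep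

open Module

variable {k : Type*} [Field k] {V : Type*} [AddCommGroup V] [Module k V] (ρ : S →* Module.End k V)

theorem rho_mul (a b : S) (v : V) : ρ (a * b) v = ρ a (ρ b v) := by
  rw [map_mul]
  rfl

/-- the linear automorphism -/
def rhoE (g : S) : V ≃ₗ[k] V :=
  LinearEquiv.ofLinearMap (ρ g) (ρ g⁻¹)
    (by
      apply LinearMap.ext
      intro v
      rw [LinearMap.comp_apply, ← rho_mul, mul_inv_cancel, map_one]
      rfl)
    (by
      apply LinearMap.ext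
      intro v
      rw [LinearMap.comp_apply, ← rho_mul, inv_mul_cancel, map_one]
      rfl)

theorem rhoE_apply (g : S) (v : V) : rhoE ρ g v = ρ g v := rfl

theorem finrank_conj (b : Bool) (g d : S) : finrank k (KK b (ρ (g * d * g⁻¹))) = finrank k (KK b (ρ d)) := by
  have h1 : (KK b (ρ d)).map (rhoE ρ g : V →ₗ[k] V) = KK b (ρ (g * d * g⁻¹)) := by
    ext w
    rw [Submodule.mem_map]
    constructor
    · rintro ⟨v, hv, rfl⟩
      change ρ (g * d * g⁻¹) (ρ g v) = sg k b • ρ g v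
      rw [← rho_mul, inv_mul_cancel_right, rho_mul, mem_KK.1 hv, map_smul]
    · intro hw
      refine ⟨ρ g⁻¹ w, ?_, ?_⟩
      · rw [mem_KK, ← map_smul, ← mem_KK.1 hw, ← rho_mul, ← rho_mul]
        congr 2
        group
      · change ρ g (ρ g⁻¹ w) = w
        rw [← rho_mul, mul_inv_cancel, map_one]
        rfl
  rw [← h1, LinearEquiv.finrank_map_eq]

/-- the elements of `D` -/
theorem class_D [Finite S] (h : E16 D) {y : S} (hy : Five D y) {d x : S} (hd : d ∈ D) (hd1 : d ≠ 1) (hx : x ∈ D)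
    (hx1 : x ≠ 1) : ∃ i : ℕ, x = y ^ i * d * (y ^ i)⁻¹ ∨ x = y ^ i * (d * (y * d * y⁻¹)) * (y ^ i)⁻¹ ∨
      x = y ^ i * (d * (y ^ 2 * d * (y ^ 2)⁻¹)) * (y ^ i)⁻¹ := by
  let _ : CommGroup D := { (inferInstance : Group D) with mul_comm := fun a b => Subtype.ext (E16.comm h a.2 b.2) }
  let e : ℕ → D := fun i => ⟨y ^ i * d * (y ^ i)⁻¹, (pow_norm hy i d).2 hd⟩
  have h2 : ∀ i, e i * e i = 1 := fun i => Subtype.ext (h.inv _ (e i).2)
  have h5 : ∀ i, e (i + 5) = e i := by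
    intro i
    apply Subtype.ext
    change y ^ (i + 5) * d * (y ^ (i + 5))⁻¹ = y ^ i * d * (y ^ i)⁻¹
    have e1 : y ^ (i + 5) * d * (y ^ (i + 5))⁻¹ = y ^ i * (y ^ 5 * d * (y ^ 5)⁻¹) * (y ^ i)⁻¹ := by
      rw [pow_add]
      group
    rw [e1, five_comm h hy hd, mul_inv_cancel_right]
  have hp : e 0 * e 1 * e 2 * e 3 * e 4 = 1 := by
    apply Subtype.ext
    have h6 := prod_orbit h hy hd
    change y ^ 0 * d * (y ^ 0)⁻¹ * (y ^ 1 * d * (y ^ 1)⁻¹) * (y ^ 2 * d * (y ^ 2)⁻¹) * (y ^ 3 * d * (y ^ 3)⁻¹) *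
      (y ^ 4 * d * (y ^ 4)⁻¹) = 1
    rw [pow_zero, pow_one, one_mul, inv_one, mul_one]
    exact h6
  have hcl := closure_orbit hy hd hd1
  have hmem : ∀ z (_ : z ∈ Subgroup.closure {e : S | ∃ i : ℕ, e = y ^ i * d * (y ^ i)⁻¹}) (hz' : z ∈ D),
      (⟨z, hz'⟩ : D) ∈ Subgroup.closure (Set.range e) := by
    intro z hz
    refine Subgroup.closure_induction (p := fun z _ => ∀ hz' : z ∈ D, (⟨z, hz'⟩ : D) ∈ Subgroup.closure (Set.range e))
      ?_ ?_ ?_ ?_ hz
    · rintro _ ⟨i, rfl⟩ hz'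
      exact Subgroup.subset_closure ⟨i, rfl⟩
    · intro hz'
      exact one_mem _
    · intro a b ha hb iha ihb hz'
      rw [hcl] at ha hb
      exact Subgroup.mul_mem _ (iha ha) (ihb hb)
    · intro a ha iha hz'
      rw [hcl] at ha
      exact Subgroup.inv_mem _ (iha ha)
  rcases class5 e h2 h5 hp (hmem x (by rw [hcl]; exact hx) hx) with h6 | ⟨i, h6 | h6 | h6⟩
  · exact absurd (congrArg Subtype.val h6) hx1
  · exact ⟨i, Or.inl (congrArg Subtype.val h6)⟩
  · refine ⟨i, Or.inr (Or.inl ((congrArg Subtype.val h6).trans ?_))⟩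
    change y ^ i * d * (y ^ i)⁻¹ * (y ^ (i + 1) * d * (y ^ (i + 1))⁻¹) = _
    rw [pow_add]
    group
  · refine ⟨i, Or.inr (Or.inr ((congrArg Subtype.val h6).trans ?_))⟩
    change y ^ i * d * (y ^ i)⁻¹ * (y ^ (i + 2) * d * (y ^ (i + 2))⁻¹) = _
    rw [pow_add]
    group

/-- four consecutive conjugates generate `D` -/
theorem top_of_four [Finite S] (h : E16 D) {y : S} (hy : Five D y) {d : S} (hd : d ∈ D) (hd1 : d ≠ 1) (K : Subgroup D)
    (hK : ∀ i < 4, (⟨y ^ i * d * (y ^ i)⁻¹, (pow_norm hy i d).2 hd⟩ : D) ∈ K) : K = ⊤ := by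
  have hsq : ∀ x ∈ D, x * x = 1 := h.inv
  have hall : ∀ i, (⟨y ^ i * d * (y ^ i)⁻¹, (pow_norm hy i d).2 hd⟩ : D) ∈ K := by
    intro i
    induction i using Nat.strong_induction_on with
    | _ i ih =>
      by_cases hi : i < 4
      · exact hK i hi
      by_cases hi4 : i = 4
      · subst hi4
        have h1 := K.mul_mem (K.mul_mem (K.mul_mem (hK 0 (by norm_num)) (hK 1 (by norm_num))) (hK 2 (by norm_num)))
          (hK 3 (by norm_num))
        refine cast (congrArg (· ∈ K) (Subtype.ext ?_)) h1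
        have h6 := prod_orbit h hy hd
        have h7 := hsq _ ((pow_norm hy 4 d).2 hd)
        have h8 := mul_right_cancel (h6.trans h7.symm)
        change y ^ 0 * d * (y ^ 0)⁻¹ * (y ^ 1 * d * (y ^ 1)⁻¹) * (y ^ 2 * d * (y ^ 2)⁻¹) * (y ^ 3 * d * (y ^ 3)⁻¹) = _
        rw [pow_zero, pow_one, one_mul, inv_one, mul_one]
        exact h8
      · obtain ⟨j, rfl⟩ : ∃ j, i = j + 5 := ⟨i - 5, by omega⟩
        refine cast (congrArg (· ∈ K) (Subtype.ext ?_)) (ih j (by omega))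
        have e1 : y ^ (j + 5) * d * (y ^ (j + 5))⁻¹ = y ^ j * (y ^ 5 * d * (y ^ 5)⁻¹) * (y ^ j)⁻¹ := by
          rw [pow_add]
          group
        change _ = y ^ (j + 5) * d * (y ^ (j + 5))⁻¹
        rw [e1, five_comm h hy hd, mul_inv_cancel_right]
  have hcl := closure_orbit hy hd hd1
  have hle : D ≤ K.map D.subtype := by
    refine hcl.symm.le.trans ((Subgroup.closure_le _).2 ?_)
    rintro _ ⟨i, rfl⟩
    exact ⟨_, hall i, rfl⟩
  rw [eq_top_iff]
  rintro ⟨x, hx⟩ -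
  obtain ⟨⟨z, hz⟩, hzK, hzx⟩ := hle hx
  have : z = x := hzx
  subst this
  exact hzK

/-- conjugates by powers of `y` -/
theorem orbit_symm [Finite S] (h : E16 D) {y : S} (hy : Five D y) {c : S} (hc : c ∈ D) (i j : ℕ) :
    y ^ j * c * (y ^ j)⁻¹ = y ^ (j + 4 * i) * (y ^ i * c * (y ^ i)⁻¹) * (y ^ (j + 4 * i))⁻¹ := by
  have h1 : Commute ((y ^ 5) ^ i) c := (show Commute (y ^ 5) c from five_comm h hy hc).pow_left i
  have h2 : (y ^ 5) ^ i * c * ((y ^ 5) ^ i)⁻¹ = c := by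
    rw [h1.eq, mul_inv_cancel_right]
  have e1 : y ^ (j + 4 * i) * (y ^ i * c * (y ^ i)⁻¹) * (y ^ (j + 4 * i))⁻¹ =
      y ^ j * ((y ^ 5) ^ i * c * ((y ^ 5) ^ i)⁻¹) * (y ^ j)⁻¹ := by
    have e2 : (y ^ 5) ^ i = y ^ (4 * i) * y ^ i := by rw [← pow_mul, ← pow_add]; congr 1; ring
    rw [e2, pow_add]
    group
  rw [e1, h2]

theorem TR' [Finite S] (h : E16 D) {y : S} (hy : Five D y) (h2 : (2 : k) ≠ 0) [FiniteDimensional k V]
    {d1 d2 d3 : S} (h1 : d1 ∈ D) (h2' : d2 ∈ D) (h3 : d3 ∈ D) (n1 : d1 ≠ 1) (n2 : d2 ≠ 1)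
    (n3 : d3 ≠ 1) (h12 : ∀ i : ℕ, d2 ≠ y ^ i * d1 * (y ^ i)⁻¹) (h13 : ∀ i : ℕ, d3 ≠ y ^ i * d1 * (y ^ i)⁻¹)
    (h23 : ∀ i : ℕ, d3 ≠ y ^ i * d2 * (y ^ i)⁻¹) :
    ∃ A a1 a2 a3 : ℕ, Module.finrank k ↥(LinearMap.ker (ρ d1 + 1)) = 2 * (A + a1) ∧
      Module.finrank k ↥(LinearMap.ker (ρ d2 + 1)) = 2 * (A + a2) ∧
      Module.finrank k ↥(LinearMap.ker (ρ d3 + 1)) = 2 * (A + a3) ∧ A = a1 + a2 + a3 ∧
      Module.finrank k V = Module.finrank k ↥(⨅ d ∈ D, LinearMap.ker (ρ d - 1)) + 5 * A ∧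
      (∀ l : D →* ℤˣ, l ≠ 1 → ∃ a ∈ ({a1, a2, a3} : Set ℕ),
        Module.finrank k ↥(⨅ d : D, LinearMap.ker (ρ (d : S) - algebraMap k _ (((l d : ℤ)) : k))) = a) := by
  -- the orbit of `d1`
  set e : ℕ → S := fun i => y ^ i * d1 * (y ^ i)⁻¹ with he
  have heD : ∀ i, e i ∈ D := fun i => (pow_norm hy i d1).2 h1
  have he0 : e 0 = d1 := by simp [he]
  have he1 : e 1 = y * d1 * y⁻¹ := by simp [he]
  have hes : ∀ i, y * e i = e (i + 1) * y := by
    intro i
    change y * (y ^ i * d1 * (y ^ i)⁻¹) = y ^ (i + 1) * d1 * (y ^ (i + 1))⁻¹ * y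
    rw [pow_succ']
    group
  have hp : e 0 * e 1 * e 2 * e 3 * e 4 = 1 := by
    rw [he0, he1]
    exact prod_orbit h hy h1
  have hsq : ∀ i, e i * e i = 1 := fun i => h.inv _ (heD i)
  have hcomm : ∀ i j, e i * e j = e j * e i := fun i j => E16.comm h (heD i) (heD j)
  have h4 : e 4 = e 0 * (e 1 * (e 2 * e 3)) := by
    have h5 : e 0 * e 1 * e 2 * e 3 = e 4 := mul_right_cancel (hp.trans (hsq 4).symm)
    rw [← h5]
    simp only [mul_assoc]
  have h4' : e 0 = e 1 * (e 2 * (e 3 * e 4)) := by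
    have h5 : e 0 * (e 1 * (e 2 * (e 3 * e 4))) = 1 := by rw [← hp]; simp only [mul_assoc]
    exact mul_left_cancel ((hsq 0).trans h5.symm)
  -- the operators
  have tsq : ∀ i v, ρ (e i) (ρ (e i) v) = v := by
    intro i v
    rw [← rho_mul, hsq, map_one]
    rfl
  have tc : ∀ i j v, ρ (e i) (ρ (e j) v) = ρ (e j) (ρ (e i) v) := by
    intro i j v
    rw [← rho_mul, hcomm, rho_mul]
  have ty : ∀ i v, rhoE ρ y (ρ (e i) v) = ρ (e (i + 1)) (rhoE ρ y v) := by
    intro i v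
    rw [rhoE_apply, rhoE_apply, ← rho_mul, ← rho_mul, hes]
  have t4 : ∀ v, ρ (e 4) v = ρ (e 0) (ρ (e 1) (ρ (e 2) (ρ (e 3) v))) := by
    intro v
    rw [h4]
    simp only [rho_mul]
  have t4' : ∀ v, ρ (e 0) v = ρ (e 1) (ρ (e 2) (ρ (e 3) (ρ (e 4) v))) := by
    intro v
    conv_lhs => rw [h4']
    simp only [rho_mul]
  set m : Bool → Bool → Bool → Bool → ℕ := mu (ρ (e 0)) (ρ (e 1)) (ρ (e 2)) (ρ (e 3)) with hm
  have hs : ∀ b0 b1 b2 b3 c : Bool, c = (b0 ^^ b1 ^^ b2 ^^ b3) → m b0 b1 b2 b3 = m c b0 b1 b2 := by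
    rintro b0 b1 b2 b3 _ rfl
    exact mu_shift (rhoE ρ y) (ty 0) (ty 1) (ty 2) (ty 3) t4 t4' b0 b1 b2 b3
  have hsum := fun {U : Submodule k V} u0 u1 u2 u3 c hc => finrank_eq_sum h2 (tsq 0) (tsq 1) (tsq 2) (tsq 3)
    (tc 0 1) (tc 0 2) (tc 0 3) (tc 1 2) (tc 1 3) (tc 2 3) (U := U) u0 u1 u2 u3 c hc
  -- the shifts
  have s1 := hs true true true true false rfl
  have s2 := hs true true true false true rfl
  have s3 := hs true true false true true rfl
  have s4 := hs true true false false false rfl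
  have s5 := hs true false true true true rfl
  have s6 := hs true false true false false rfl
  have s7 := hs true false false true false rfl
  have s8 := hs true false false false true rfl
  have s9 := hs false true true true true rfl
  have s10 := hs false true true false false rfl
  have s11 := hs false true false true false rfl
  have s12 := hs false true false false true rfl
  have s13 := hs false false true true false rfl
  have s14 := hs false false true false true rfl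
  have s15 := hs false false false true true rfl
  -- eigenvalues of products
  have hker : ∀ (a : S) (c : Bool → Bool → Bool → Bool → Bool) (_ : a ∈ D)
      (_ : ∀ b0 b1 b2 b3 : Bool, ∀ v, v ∈ KK b0 (ρ (e 0)) → v ∈ KK b1 (ρ (e 1)) → v ∈ KK b2 (ρ (e 2)) →
        v ∈ KK b3 (ρ (e 3)) → ρ a v = sg k (c b0 b1 b2 b3) • v),
      finrank k (LinearMap.ker (ρ a + 1)) = ∑ b0 : Bool, ∑ b1 : Bool, ∑ b2 : Bool, ∑ b3 : Bool,
        if c b0 b1 b2 b3 then m b0 b1 b2 b3 else 0 := by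
    intro a c ha hac
    rw [ker_add_one]
    have hU : ∀ i, ∀ u ∈ KK true (ρ a), ρ (e i) u ∈ KK true (ρ a) := by
      intro i u hu
      have hu' : ρ a u = sg k true • u := hu
      change ρ a (ρ (e i) u) = sg k true • ρ (e i) u
      rw [← rho_mul, E16.comm h ha (heD i), rho_mul, hu', map_smul]
    refine hsum (hU 0) (hU 1) (hU 2) (hU 3) c ?_
    intro b0 b1 b2 b3 v e0 e1 e2 e3 hv
    have h5 := hac b0 b1 b2 b3 v e0 e1 e2 e3
    rw [mem_KK, h5]
    constructor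
    · intro h6
      by_contra h7
      rw [Bool.not_eq_true] at h7
      rw [h7, ← sub_eq_zero, ← sub_smul, smul_eq_zero, sub_eq_zero] at h6
      rcases h6 with h6 | h6
      · exact sg_ne h2 h6.symm
      · exact hv h6
    · intro h6
      rw [h6]
  have k1 : finrank k (LinearMap.ker (ρ d1 + 1)) = 2 * ((m true true true true + m true false true false +
      m true true false false) + m true true true true) := by
    rw [hker d1 (fun b0 _ _ _ => b0) h1 (fun b0 b1 b2 b3 v e0 _ _ _ => by rw [← he0]; exact e0)]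
    simp only [Fintype.sum_bool, if_true, if_false, Bool.false_eq_true]
    omega
  have k2 : finrank k (LinearMap.ker (ρ (d1 * (y * d1 * y⁻¹)) + 1)) = 2 * ((m true true true true +
      m true false true false + m true true false false) + m true false true false) := by
    rw [hker _ (fun b0 b1 _ _ => b0 ^^ b1) (D.mul_mem h1 (he1 ▸ heD 1)) (fun b0 b1 b2 b3 v e0 e1 _ _ => by
      rw [← he1, ← he0, rho_mul, mem_KK.1 e1, map_smul, mem_KK.1 e0, smul_smul, sg_mul, Bool.xor_comm])]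
    simp only [Fintype.sum_bool, Bool.xor_true, Bool.xor_false, Bool.not_true, Bool.not_false, if_true, if_false,
      Bool.false_eq_true]
    omega
  have k3 : finrank k (LinearMap.ker (ρ (d1 * (y ^ 2 * d1 * (y ^ 2)⁻¹)) + 1)) = 2 * ((m true true true true +
      m true false true false + m true true false false) + m true true false false) := by
    rw [hker _ (fun b0 _ b2 _ => b0 ^^ b2) (D.mul_mem h1 (heD 2)) (fun b0 b1 b2 b3 v e0 _ e2 _ => by
      rw [← he0, rho_mul, mem_KK.1 e2, map_smul, mem_KK.1 e0, smul_smul, sg_mul, Bool.xor_comm])]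
    simp only [Fintype.sum_bool, Bool.xor_true, Bool.xor_false, Bool.not_true, Bool.not_false, if_true, if_false,
      Bool.false_eq_true]
    omega
  have kV : finrank k V = m false false false false + 5 * (m true true true true + m true false true false +
      m true true false false) := by
    have h5 := hsum (U := ⊤) (fun _ _ => trivial) (fun _ _ => trivial) (fun _ _ => trivial) (fun _ _ => trivial)
      (fun _ _ _ _ => true) (fun _ _ _ _ _ _ _ _ _ _ => ⟨fun _ => rfl, fun _ => trivial⟩)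
    rw [finrank_top, ← hm] at h5
    rw [h5]
    simp only [Fintype.sum_bool, if_true]
    omega
  -- the eigenspaces of characters
  have hl : ∀ (l : D →* ℤˣ) (v : V), (∀ i < 4, ρ (e i) v = ((l ⟨e i, heD i⟩ : ℤ) : k) • v) →
      ∀ d (hd : d ∈ D), ρ d v = ((l ⟨d, hd⟩ : ℤ) : k) • v := by
    intro l v hv
    let K : Subgroup D :=
      { carrier := {d | ρ (d : S) v = ((l d : ℤ) : k) • v}
        mul_mem' := by
          intro a b ha hb
          change ρ ((a : S) * b) v = _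
          have ha' : ρ (a : S) v = _ := ha
          have hb' : ρ (b : S) v = _ := hb
          rw [rho_mul, hb', map_smul, ha', smul_smul, map_mul, Units.val_mul, Int.cast_mul, mul_comm]
        one_mem' := by
          change ρ (1 : S) v = _
          rw [map_one, map_one, Units.val_one, Int.cast_one, one_smul]
          rfl
        inv_mem' := by
          intro a ha
          have e1 : a⁻¹ = a := inv_eq_of_mul_eq_one_left (Subtype.ext (h.inv a a.2))
          rw [e1]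
          exact ha }
    have hK := top_of_four h hy h1 n1 K (fun i hi => hv i hi)
    intro d hd
    have h5 : (⟨d, hd⟩ : D) ∈ K := by rw [hK]; trivial
    exact h5
  have hsgn : ∀ u : ℤˣ, ((u : ℤ) : k) = sg k (decide (u = -1)) := by
    intro u
    rcases Int.units_eq_one_or u with rfl | rfl
    · simp [sg]
    · simp [sg]
  have hinf : ∀ l : D →* ℤˣ, (⨅ d : D, LinearMap.ker (ρ (d : S) - algebraMap k _ (((l d : ℤ)) : k))) =
      KK (decide (l ⟨e 0, heD 0⟩ = -1)) (ρ (e 0)) ⊓ KK (decide (l ⟨e 1, heD 1⟩ = -1)) (ρ (e 1)) ⊓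
        KK (decide (l ⟨e 2, heD 2⟩ = -1)) (ρ (e 2)) ⊓ KK (decide (l ⟨e 3, heD 3⟩ = -1)) (ρ (e 3)) := by
    intro l
    have hv : ∀ (v : V) (d : D), v ∈ LinearMap.ker (ρ (d : S) - algebraMap k _ (((l d : ℤ)) : k)) ↔
        ρ d v = ((l d : ℤ) : k) • v := by
      intro v d
      rw [LinearMap.mem_ker, LinearMap.sub_apply, sub_eq_zero, Module.algebraMap_end_apply]
    have hv' : ∀ (v : V) (i : ℕ), v ∈ KK (decide (l ⟨e i, heD i⟩ = -1)) (ρ (e i)) ↔
        ρ (e i) v = ((l ⟨e i, heD i⟩ : ℤ) : k) • v := by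
      intro v i
      rw [mem_KK, hsgn]
    ext v
    rw [Submodule.mem_iInf]
    constructor
    · intro h5
      have h6 : ∀ i, v ∈ KK (decide (l ⟨e i, heD i⟩ = -1)) (ρ (e i)) := fun i =>
        (hv' v i).2 ((hv v ⟨e i, heD i⟩).1 (h5 ⟨e i, heD i⟩))
      exact ⟨⟨⟨h6 0, h6 1⟩, h6 2⟩, h6 3⟩
    · rintro ⟨⟨⟨e0, e1⟩, e2⟩, e3⟩ d
      rw [hv]
      refine hl l v ?_ d d.2
      intro i hi
      interval_cases i
      · exact (hv' v 0).1 e0
      · exact (hv' v 1).1 e1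
      · exact (hv' v 2).1 e2
      · exact (hv' v 3).1 e3
  have hone : (⨅ d ∈ D, LinearMap.ker (ρ d - 1)) = KK false (ρ (e 0)) ⊓ KK false (ρ (e 1)) ⊓ KK false (ρ (e 2)) ⊓
      KK false (ρ (e 3)) := by
    have h5 := hinf 1
    have e1 : ∀ i, decide ((1 : D →* ℤˣ) ⟨e i, heD i⟩ = -1) = false := by
      intro i
      rw [MonoidHom.one_apply]
      decide
    rw [e1, e1, e1, e1] at h5
    rw [← h5]
    ext v
    simp only [Submodule.mem_iInf, LinearMap.mem_ker, LinearMap.sub_apply, Module.algebraMap_end_apply,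
      MonoidHom.one_apply, Units.val_one, Int.cast_one, one_smul, Module.End.one_apply, Subtype.forall]
  have hlast : ∀ a1 a2 a3 : ℕ, ({m true true true true, m true false true false, m true true false false} : Set ℕ) ⊆
      {a1, a2, a3} → ∀ l : D →* ℤˣ, l ≠ 1 → ∃ a ∈ ({a1, a2, a3} : Set ℕ),
        Module.finrank k ↥(⨅ d : D, LinearMap.ker (ρ (d : S) - algebraMap k _ (((l d : ℤ)) : k))) = a := by
    intro a1 a2 a3 hsub l hl1
    refine ⟨_, ?_, rfl⟩
    apply hsub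
    rw [hinf]
    change mu (ρ (e 0)) (ρ (e 1)) (ρ (e 2)) (ρ (e 3)) _ _ _ _ ∈ _
    rw [← hm]
    generalize hb0 : decide (l ⟨e 0, heD 0⟩ = -1) = b0
    generalize hb1 : decide (l ⟨e 1, heD 1⟩ = -1) = b1
    generalize hb2 : decide (l ⟨e 2, heD 2⟩ = -1) = b2
    generalize hb3 : decide (l ⟨e 3, heD 3⟩ = -1) = b3
    simp only [Set.mem_insert_iff, Set.mem_singleton_iff]
    cases b0 <;> cases b1 <;> cases b2 <;> cases b3
    · exfalso
      apply hl1
      have h5 : l.ker = ⊤ := by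
        refine top_of_four h hy h1 n1 l.ker fun i hi => ?_
        rw [MonoidHom.mem_ker]
        have h6 : ∀ u : ℤˣ, decide (u = -1) = false → u = 1 := by
          intro u hu
          rcases Int.units_eq_one_or u with h7 | h7
          · exact h7
          · rw [h7] at hu
            simp at hu
        interval_cases i
        · exact h6 _ hb0
        · exact h6 _ hb1
        · exact h6 _ hb2
        · exact h6 _ hb3
      ext d
      have h6 : d ∈ l.ker := by rw [h5]; trivial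
      rw [MonoidHom.mem_ker.1 h6]
      rfl
    all_goals omega
  rcases class_D h hy h1 n1 h2' n2 with ⟨i, hi | hi | hi⟩
  · exact absurd hi (h12 i)
  · rcases class_D h hy h1 n1 h3 n3 with ⟨j, hj | hj | hj⟩
    · exact absurd hj (h13 j)
    · exfalso
      refine h23 (j + 4 * i) ?_
      rw [hj, hi]
      exact orbit_symm h hy (D.mul_mem h1 (he1 ▸ heD 1)) i j
    · refine ⟨m true true true true + m true false true false + m true true false false, m true true true true,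
        m true false true false, m true true false false, k1, ?_, ?_, rfl, ?_, hlast _ _ _ (le_refl _)⟩
      · rw [hi, ker_add_one, finrank_conj, ← ker_add_one, k2]
      · rw [hj, ker_add_one, finrank_conj, ← ker_add_one, k3]
      · rw [hone]
        exact kV
  · rcases class_D h hy h1 n1 h3 n3 with ⟨j, hj | hj | hj⟩
    · exact absurd hj (h13 j)
    · refine ⟨m true true true true + m true false true false + m true true false false, m true true true true,
        m true true false false, m true false true false, k1, ?_, ?_, by omega, ?_, hlast _ _ _ ?_⟩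
      · rw [hi, ker_add_one, finrank_conj, ← ker_add_one, k3]
      · rw [hj, ker_add_one, finrank_conj, ← ker_add_one, k2]
      · rw [hone]
        exact kV
      · intro x hx
        simp only [Set.mem_insert_iff, Set.mem_singleton_iff] at hx ⊢
        tauto
    · exfalso
      refine h23 (j + 4 * i) ?_
      rw [hj, hi]
      exact orbit_symm h hy (D.mul_mem h1 (heD 2)) i j

end rep

/-- **the trace formula** -/
theorem TR {S : Type u} [Group S] [Finite S] {D : Subgroup S} (h : E16 D) {y : S} (hy : Five D y)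
    {k : Type*} [Field k] (h2 : (2 : k) ≠ 0) {V : Type*} [AddCommGroup V] [Module k V] [FiniteDimensional k V]
    (ρ : S →* Module.End k V) {d1 d2 d3 : S} (h1 : d1 ∈ D) (h2' : d2 ∈ D) (h3 : d3 ∈ D) (n1 : d1 ≠ 1) (n2 : d2 ≠ 1)
    (n3 : d3 ≠ 1) (h12 : ∀ i : ℕ, d2 ≠ y ^ i * d1 * (y ^ i)⁻¹) (h13 : ∀ i : ℕ, d3 ≠ y ^ i * d1 * (y ^ i)⁻¹)
    (h23 : ∀ i : ℕ, d3 ≠ y ^ i * d2 * (y ^ i)⁻¹) :
    ∃ A a1 a2 a3 : ℕ, Module.finrank k ↥(LinearMap.ker (ρ d1 + 1)) = 2 * (A + a1) ∧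
      Module.finrank k ↥(LinearMap.ker (ρ d2 + 1)) = 2 * (A + a2) ∧
      Module.finrank k ↥(LinearMap.ker (ρ d3 + 1)) = 2 * (A + a3) ∧ A = a1 + a2 + a3 ∧
      Module.finrank k V = Module.finrank k ↥(⨅ d ∈ D, LinearMap.ker (ρ d - 1)) + 5 * A ∧
      (∀ l : D →* ℤˣ, l ≠ 1 → ∃ a ∈ ({a1, a2, a3} : Set ℕ),
        Module.finrank k ↥(⨅ d : D, LinearMap.ker (ρ (d : S) - algebraMap k _ (((l d : ℤ)) : k))) = a) :=
  TR' ρ h hy h2 h1 h2' h3 n1 n2 n3 h12 h13 h23

end Cfsg.Agent.H15.KS
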